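import Groth.Agent.HopfTruncLib.GroupLCI
import Mathlib

/-!
# Flat group schemes locally of finite presentation are syntomic
-/

set_option autoImplicit false
set_option linter.style.haveILetI false
set_option backward.isDefEq.respectTransparency.types false

noncomputable section

universe u

open CategoryTheory CategoryTheory.Limits AlgebraicGeometry IsLocalRing
open Groth.Agent.GrpSchLib

namespace HopfTruncLib

theorem isField_stalk_spec_field {K : Type u} [Field K] (z : Spec (CommRingCat.of K)) :
    IsField ((Spec (CommRingCat.of K)).presheaf.stalk z) := by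
  have := isIso_toStalk_field K z
  exact MulEquiv.isField (Field.toIsField K) (asIso ((Scheme.ΓSpecIso (CommRingCat.of K)).inv ≫
    (Spec (CommRingCat.of K)).presheaf.germ ⊤ z trivial)).commRingCatIsoToRingEquiv.symm.toMulEquiv

theorem isSyntomicAt_of_ci {K : Type u} [Field K] {X : Scheme.{u}} (f : X ⟶ Spec (CommRingCat.of K))
    [LocallyOfFiniteType f] (x : X) (h : Pi1.IsCompleteIntersection (X.presheaf.stalk x)) :
    Synt.IsSyntomicAt f x := by
  haveI : Flat f := inferInstance
  refine CIRingLib.isSyntomicAt_of_ciFib f x ?_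
  haveI : IsNoetherianRing (X.presheaf.stalk x) := by
    have : IsLocallyNoetherian X := LocallyOfFiniteType.isLocallyNoetherian f
    infer_instance
  have hm : (maximalIdeal ((Spec (CommRingCat.of K)).presheaf.stalk (f x))).map (f.stalkMap x).hom = ⊥ := by
    rw [IsLocalRing.isField_iff_maximalIdeal_eq.1 (isField_stalk_spec_field _), Ideal.map_bot]
  let e : (X.presheaf.stalk x ⧸ (maximalIdeal ((Spec (CommRingCat.of K)).presheaf.stalk (f x))).map (f.stalkMap x).hom) ≃+*
      X.presheaf.stalk x :=
    (Ideal.quotEquivOfEq hm).trans (RingEquiv.quotientBot _)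
  haveI := e.symm.isLocalRing
  exact ⟨‹_›, (CIRingLib.isCompleteIntersection_congr_iff e).2 h⟩

theorem ci_stalk_of_syntomicMor {K : Type u} [Field K] {X : Scheme.{u}} (f : X ⟶ Spec (CommRingCat.of K))
    (hf : Synt.IsSyntomicMor f) (x : X) : Pi1.IsCompleteIntersection (X.presheaf.stalk x) := by
  haveI := isIso_toStalk_field K (f x)
  let e := (asIso ((Scheme.ΓSpecIso (CommRingCat.of K)).inv ≫
    (Spec (CommRingCat.of K)).presheaf.germ ⊤ (f x) trivial)).commRingCatIsoToRingEquiv
  haveI : IsNoetherianRing ((Spec (CommRingCat.of K)).presheaf.stalk (f x)) := isNoetherianRing_of_ringEquiv _ e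
  exact CIRingLib.isCompleteIntersection_stalk f ((CIRingLib.isSyntomicMor_iff_isCIMorphism f).1 hf) x
    ((CIRingLib.isCompleteIntersection_congr_iff e).1 (CIRingLib.isCompleteIntersection_of_regular K))

theorem syntomic_of_isAlgClosed {K : Type u} [Field K] [IsAlgClosed K] (G : Over (Spec (CommRingCat.of K))) [GrpObj G]
    [LocallyOfFiniteType G.hom] : Synt.IsSyntomicMor G.hom := by
  obtain ⟨p, hp⟩ := CharP.exists K
  rcases CharP.char_is_prime_or_zero K p with hprime | rfl
  · haveI := Fact.mk hprime
    have := LocallyOfFiniteType.jacobsonSpace G.hom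
    have hopen : IsOpen {x : G.left | Synt.IsSyntomicAt G.hom x} := by
      rw [isOpen_iff_forall_mem_open]
      rintro x ⟨U, V, e, hx, hs⟩
      exact ⟨U.1, fun y hy => ⟨U, V, e, hy, hs⟩, U.1.isOpen, hx⟩
    intro x
    by_contra hx
    obtain ⟨y, hy, hyc⟩ := nonempty_inter_closedPoints (X := G.left) (Z := {x : G.left | Synt.IsSyntomicAt G.hom x}ᶜ)
      ⟨x, hx⟩ hopen.isClosed_compl.isLocallyClosed
    refine hy (isSyntomicAt_of_ci G.hom y ?_)
    obtain ⟨α, hα⟩ := exists_translation G y hyc
    haveI : IsIso α.hom.left := (Over.forget _).map_isIso α.hom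
    have h0 := ci_rloc G p
    haveI : IsLocallyNoetherian G.left := LocallyOfFiniteType.isLocallyNoetherian G.hom
    exact (CIRingLib.isCompleteIntersection_congr_iff
      ((G.left.presheaf.stalkCongr (.of_eq hα.symm)).commRingCatIsoToRingEquiv.trans
        (asIso (α.hom.left.stalkMap y)).commRingCatIsoToRingEquiv)).1 h0
  · haveI := CharP.charP_to_charZero K
    haveI := smooth_of_charZero G
    exact (TransLib.isSyntomicMor_iff _).2 (TransLib.syntMor_of_smooth _)

theorem syntomic_of_field {K : Type u} [Field K] (G : Over (Spec (CommRingCat.of K))) [GrpObj G]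
    [LocallyOfFiniteType G.hom] : Synt.IsSyntomicMor G.hom := by
  let Ω : Type u := AlgebraicClosure K
  let g : Spec (CommRingCat.of Ω) ⟶ Spec (CommRingCat.of K) := Spec.map (CommRingCat.ofHom <| algebraMap K Ω)
  have : GrpObj (Over.mk G.hom) := ‹GrpObj G›
  let : GrpObj (Over.mk (Limits.pullback.snd G.hom g)) := Over.grpObjMkPullbackSnd
  have : LocallyOfFiniteType (Over.mk (Limits.pullback.snd G.hom g)).hom :=
    inferInstanceAs (LocallyOfFiniteType (Limits.pullback.snd G.hom g))
  have h := syntomic_of_isAlgClosed (Over.mk (Limits.pullback.snd G.hom g))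
  haveI : Flat g := inferInstance
  intro x
  obtain ⟨z, hz⟩ := (Limits.pullback.fst G.hom g).surjective x
  refine isSyntomicAt_of_ci G.hom x ?_
  subst hz
  exact (CIRingLib.ci_stalk_baseChange_field G.hom g z).2 (ci_stalk_of_syntomicMor (pullback.snd G.hom g) h z)

theorem syntomic_of_flat_lfp {S : Scheme.{u}} (G : Over S) [GrpObj G] [Flat G.hom]
    [LocallyOfFinitePresentation G.hom] : Synt.IsSyntomicMor G.hom := by
  refine (TransLib.isSyntomicMor_iff _).2 (TransLib.syntMor_of_fibres _ fun s => ?_)
  have : GrpObj (Over.mk G.hom) := ‹GrpObj G›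
  let h0 : GrpObj (Over.mk (pullback.snd G.hom (S.fromSpecResidueField s))) := Over.grpObjMkPullbackSnd
  haveI : GrpObj (Over.mk (G.hom.fiberToSpecResidueField s)) := h0
  haveI := UOpenLib.lft_fiberToSpec G.hom s
  have : LocallyOfFiniteType (Over.mk (G.hom.fiberToSpecResidueField s)).hom :=
    inferInstanceAs (LocallyOfFiniteType (G.hom.fiberToSpecResidueField s))
  exact (TransLib.isSyntomicMor_iff _).1 (@syntomic_of_field (S.residueField s) _ (Over.mk (G.hom.fiberToSpecResidueField s)) h0 _)

end HopfTruncLib
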