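import Groth.Agent.HopfFFLib.FrobHopf
import Mathlib

/-!
# Infinitesimal group schemes over perfect fields are truncated polynomial
-/

set_option autoImplicit false
set_option linter.style.haveILetI false

universe u v

open MvPolynomial IsLocalRing
open Groth.Agent.GrpSchLib.HopfRed Groth.Agent.HopfFF

namespace HopfTruncLib

variable {k : Type u} [Field k]

/-- The ideal generated by the given powers of the variables. -/
noncomputable def truncIdeal (k : Type u) [Field k] {r : ℕ} (m : Fin r → ℕ) : Ideal (MvPolynomial (Fin r) k) :=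
  Ideal.span (Set.range fun i => (X i : MvPolynomial (Fin r) k) ^ m i)

theorem mem_truncIdeal_iff {r : ℕ} (m : Fin r → ℕ) (P : MvPolynomial (Fin r) k) :
    P ∈ truncIdeal k m ↔ ∀ d ∈ P.support, ∃ i, m i ≤ d i := by
  have h : truncIdeal k m = Ideal.span ((fun d => monomial d (1 : k)) '' Set.range fun i => Finsupp.single i (m i)) := by
    rw [truncIdeal, ← Set.range_comp]
    congr 2
    funext i
    exact X_pow_eq_monomial
  rw [h, mem_ideal_span_monomial_image]
  refine forall₂_congr fun d _ => ?_
  simp [Finsupp.single_le_iff]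

theorem X_pow_mem {r : ℕ} (m : Fin r → ℕ) (i : Fin r) : (X i : MvPolynomial (Fin r) k) ^ m i ∈ truncIdeal k m :=
  Ideal.subset_span ⟨i, rfl⟩

theorem finrank_trunc {r : ℕ} (m : Fin r → ℕ) :
    Module.Finite k (MvPolynomial (Fin r) k ⧸ truncIdeal k m) ∧
      Module.finrank k (MvPolynomial (Fin r) k ⧸ truncIdeal k m) = ∏ i, m i := by
  classical
  let S : Set (Fin r →₀ ℕ) := {d | ∀ i, d i < m i}
  let φ : restrictSupport k S →ₗ[k] MvPolynomial (Fin r) k ⧸ truncIdeal k m :=
    (Ideal.Quotient.mkₐ k _).toLinearMap ∘ₗ Submodule.subtype _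
  have hinj : Function.Injective φ := by
    rw [injective_iff_map_eq_zero]
    rintro ⟨P, hP⟩ h0
    refine Subtype.ext (support_eq_empty.1 (Finset.eq_empty_of_forall_notMem fun d hd => ?_))
    obtain ⟨i, hi⟩ := (mem_truncIdeal_iff m P).1 (Ideal.Quotient.eq_zero_iff_mem.1 h0) d hd
    exact absurd (hP hd i) (not_lt.2 hi)
  have hsurj : Function.Surjective φ := by
    intro q
    obtain ⟨P, rfl⟩ := Ideal.Quotient.mk_surjective q
    show Ideal.Quotient.mk _ P ∈ LinearMap.range φ
    rw [P.as_sum, map_sum]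
    refine Submodule.sum_mem _ fun d _ => ?_
    by_cases hd : d ∈ S
    · exact ⟨⟨monomial d (MvPolynomial.coeff d P), by
        intro e he
        rw [Finset.mem_singleton.1 (support_monomial_subset he)]
        exact hd⟩, rfl⟩
    · simp only [S, Set.mem_ofPred_eq, not_forall, not_lt] at hd
      rw [Ideal.Quotient.eq_zero_iff_mem.2 ((mem_truncIdeal_iff m _).2 fun e he => by
        rw [Finset.mem_singleton.1 (support_monomial_subset he)]; exact hd)]
      exact zero_mem _
  let e : S ≃ ((i : Fin r) → Fin (m i)) :=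
    { toFun := fun d i => ⟨d.1 i, d.2 i⟩
      invFun := fun f => ⟨Finsupp.equivFunOnFinite.symm fun i => (f i).1, fun i => by simp⟩
      left_inv := fun d => by ext; simp
      right_inv := fun f => by ext; simp }
  haveI : Finite S := Finite.of_equiv _ e.symm
  have hfin : Module.Finite k (restrictSupport k S) := Module.Finite.of_basis (basisRestrictSupport k S)
  refine ⟨Module.Finite.equiv (LinearEquiv.ofBijective φ ⟨hinj, hsurj⟩), ?_⟩
  rw [← (LinearEquiv.ofBijective φ ⟨hinj, hsurj⟩).finrank_eq,
    Module.finrank_eq_nat_card_basis (basisRestrictSupport k S), Nat.card_congr e]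
  simp

variable {A : Type v} [CommRing A] [HopfAlgebra k A]

theorem exists_lift_basis [Module.Finite k A] {d : ℕ} (hd : Module.finrank k (augI k A).Cotangent = d) :
    ∃ (b : Module.Basis (Fin d) k (augI k A).Cotangent) (x : Fin d → A), (∀ i, x i ∈ augI k A) ∧
      ∀ i, cotProj k A (x i) = b i := by
  haveI : IsArtinianRing A := IsArtinianRing.of_finite k A
  haveI : Module.Finite k (augI k A).Cotangent := finite_cotangent (k := k) (B := A)
  let b := Module.finBasisOfFinrankEq k (augI k A).Cotangent hd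
  choose x hx using fun i => (augI k A).toCotangent_surjective (b i)
  exact ⟨b, fun i => x i, fun i => (x i).2, fun i => by rw [cotProj_of_mem (x i).2, ← hx i]⟩

/-- The Frobenius kernel of an infinitesimal group scheme. -/
theorem nonempty_algEquiv_frobeniusKernel (p : ℕ) [Fact p.Prime] [CharP k p] [Module.Finite k A] [IsLocalRing A]
    (d : ℕ) (hd : Module.finrank k (augI k A).Cotangent = d) :
    Nonempty ((A ⧸ pthIdeal k A p) ≃ₐ[k] MvPolynomial (Fin d) k ⧸ truncIdeal k fun _ : Fin d => p) := by
  haveI : IsArtinianRing A := IsArtinianRing.of_finite k A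
  obtain ⟨b, x, hx, hxb⟩ := exists_lift_basis (A := A) hd
  let φ : MvPolynomial (Fin d) k →ₐ[k] A ⧸ pthIdeal k A p :=
    (Ideal.Quotient.mkₐ k (pthIdeal k A p)).comp (aeval x)
  have hle : truncIdeal k (fun _ : Fin d => p) ≤ RingHom.ker φ := by
    rw [truncIdeal, Ideal.span_le]
    rintro _ ⟨i, rfl⟩
    rw [SetLike.mem_coe, RingHom.mem_ker]
    show Ideal.Quotient.mk _ (aeval x ((X i : MvPolynomial (Fin d) k) ^ p)) = 0
    rw [map_pow, aeval_X]
    exact Ideal.Quotient.eq_zero_iff_mem.2 (Ideal.subset_span ⟨x i, hx i, rfl⟩)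
  let ψ : (MvPolynomial (Fin d) k ⧸ truncIdeal k fun _ : Fin d => p) →ₐ[k] A ⧸ pthIdeal k A p :=
    Ideal.Quotient.liftₐ _ φ fun a ha => hle ha
  have hs : Function.Surjective ψ := by
    intro q
    obtain ⟨a, rfl⟩ := Ideal.Quotient.mk_surjective q
    obtain ⟨P, rfl⟩ := mem_range_aeval b x hx hxb a
    exact ⟨Ideal.Quotient.mk _ P, rfl⟩
  obtain ⟨hfin, hT⟩ := finrank_trunc (k := k) (fun _ : Fin d => p)
  haveI := hfin
  haveI : Module.Finite k (A ⧸ pthIdeal k A p) :=
    Module.Finite.of_surjective (Ideal.Quotient.mkₐ k (pthIdeal k A p)).toLinearMap Ideal.Quotient.mk_surjective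
  have hA := finrank_quotient_pthIdeal b x hx hxb p
  have heq : Module.finrank k (MvPolynomial (Fin d) k ⧸ truncIdeal k fun _ : Fin d => p) =
      Module.finrank k (A ⧸ pthIdeal k A p) := by
    rw [hT, hA]; simp
  exact ⟨(AlgEquiv.ofBijective ψ ⟨(LinearMap.injective_iff_surjective_of_finrank_eq_finrank
    (f := ψ.toLinearMap) heq).2 hs, hs⟩).symm⟩

theorem counit_eq_zero_of_isNilpotent {a : A} (ha : IsNilpotent a) : a ∈ augI k A :=
  isNilpotent_iff_eq_zero.1 (ha.map (cou (k := k) (B := A)))

theorem isNilpotent_of_mem_augI [Module.Finite k A] [IsLocalRing A] {a : A} (ha : a ∈ augI k A) : IsNilpotent a := by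
  haveI : IsArtinianRing A := IsArtinianRing.of_finite k A
  obtain ⟨N, hN⟩ := IsArtinianRing.isNilpotent_jacobson_bot (R := A)
  refine ⟨N, ?_⟩
  have h1 : a ∈ Ideal.jacobson (⊥ : Ideal A) := by
    rw [IsLocalRing.jacobson_eq_maximalIdeal ⊥ bot_ne_top]
    exact IsLocalRing.le_maximalIdeal (RingHom.ker_ne_top _) ha
  simpa using hN.le (Ideal.pow_mem_pow h1 N)

theorem cotProj_aeval_mem {σ : Type} (y : σ → A) (P : MvPolynomial σ k) :
    cotProj k A (aeval y P) ∈ Submodule.span k (Set.range fun i => cotProj k A (y i)) := by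
  induction P using MvPolynomial.induction_on with
  | C a =>
    have h0 : cotProj k A (algebraMap k A a) = 0 := by
      show (augI k A).toCotangent _ = 0
      rw [Ideal.toCotangent_eq_zero]
      simp
    rw [aeval_C, h0]
    exact zero_mem _
  | add p q hp hq => rw [map_add, map_add]; exact add_mem hp hq
  | mul_X p i hp =>
    rw [map_mul, aeval_X, cotProj_mul]
    exact add_mem (Submodule.smul_mem _ _ (Submodule.subset_span ⟨i, rfl⟩)) (Submodule.smul_mem _ _ hp)

theorem cotangent_linearIndependent (p : ℕ) [Fact p.Prime] [CharP k p] [PerfectRing k p] {B : Type v}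
    [CommRing B] [Algebra k B] (F : A →+* B) (hFc : ∀ c : k, F (algebraMap k A c) = algebraMap k B (c ^ p))
    (hFn : ∀ a ∈ augI k A, IsNilpotent (F a)) {r : ℕ} (e : Fin r → ℕ) (he : ∀ i, 1 ≤ e i)
    (E : (MvPolynomial (Fin r) k ⧸ truncIdeal k fun i => p ^ e i) ≃ₐ[k] B) (y : Fin r → A)
    (hy : ∀ i, y i ∈ augI k A) (hyT : ∀ i, F (y i) = E (Ideal.Quotient.mk _ (X i))) :
    LinearIndependent k fun i => cotProj k A (y i) := by
  classical
  rw [Fintype.linearIndependent_iff]
  intro c hc j
  have hmem : ∑ i, c i • y i ∈ augI k A := Ideal.sum_mem _ fun i _ => by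
    rw [Algebra.smul_def]; exact Ideal.mul_mem_left _ _ (hy i)
  have hsq : ∑ i, c i • y i ∈ augI k A ^ 2 := by
    refine ((augI k A).toCotangent_eq_zero ⟨_, hmem⟩).1 ?_
    rw [← cotProj_of_mem hmem, map_sum]
    simpa [map_smul] using hc
  let δ : (MvPolynomial (Fin r) k ⧸ truncIdeal k fun i => p ^ e i) →ₐ[k] DualNumber k :=
    Ideal.Quotient.liftₐ _ (aeval fun i => if i = j then DualNumber.eps else 0) fun a ha => by
      refine Submodule.span_induction ?_ (map_zero _) (fun a b _ _ ha hb => by rw [map_add, ha, hb, add_zero])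
        (fun a b _ hb => by rw [smul_eq_mul, map_mul, hb, mul_zero]) ha
      rintro _ ⟨i, rfl⟩
      have h2 : 2 ≤ p ^ e i := (Fact.out : p.Prime).two_le.trans (Nat.le_self_pow (by have := he i; omega) p)
      rw [map_pow, aeval_X]
      show (if i = j then DualNumber.eps else 0) ^ (p ^ e i) = 0
      split
      · obtain ⟨n, hn⟩ : ∃ n, p ^ e i = 2 + n := ⟨p ^ e i - 2, by omega⟩
        rw [hn, pow_add, pow_two, DualNumber.eps_mul_eps, zero_mul]
      · exact zero_pow (by omega)
  let g : A →+* DualNumber k := δ.toRingHom.comp (E.symm.toRingHom.comp F)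
  have hg : ∀ a ∈ augI k A, TrivSqZeroExt.fst (g a) = 0 := fun a ha =>
    isNilpotent_iff_eq_zero.1 (((hFn a ha).map (δ.toRingHom.comp E.symm.toRingHom)).map
      (TrivSqZeroExt.fstHom k k k).toRingHom)
  have hg2 : g (∑ i, c i • y i) = 0 := by
    rw [pow_two] at hsq
    refine Submodule.mul_induction_on hsq (fun a ha b hb => ?_) fun a b ha hb => by rw [map_add, ha, hb, add_zero]
    rw [map_mul]
    exact TrivSqZeroExt.ext (by simp [hg a ha]) (by simp [hg a ha, hg b hb])
  have hcomp : g (∑ i, c i • y i) = (c j ^ p) • (DualNumber.eps : DualNumber k) := by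
    rw [map_sum, Finset.sum_eq_single j]
    · show δ (E.symm (F (c j • y j))) = _
      rw [Algebra.smul_def, map_mul, hFc, hyT, map_mul, AlgEquiv.commutes, E.symm_apply_apply, map_mul,
        AlgHom.commutes, Algebra.smul_def]
      congr 1
      show aeval _ (X j) = _
      rw [aeval_X, if_pos rfl]
    · intro i _ hi
      show δ (E.symm (F (c i • y i))) = _
      rw [Algebra.smul_def, map_mul, hFc, hyT, map_mul, AlgEquiv.commutes, E.symm_apply_apply, map_mul]
      refine mul_eq_zero_of_right _ ?_
      show aeval _ (X i) = 0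
      rw [aeval_X, if_neg hi]
    · exact fun h => absurd (Finset.mem_univ j) h
  rw [hcomp] at hg2
  have h3 := congrArg TrivSqZeroExt.snd hg2
  simp at h3
  exact h3.1

theorem exists_equiv_step (p : ℕ) [Fact p.Prime] [CharP k p] [PerfectRing k p] [Module.Finite k A] [IsLocalRing A]
    (r : ℕ) (e : Fin r → ℕ) (he : ∀ i, 1 ≤ e i)
    (E : (MvPolynomial (Fin r) k ⧸ truncIdeal k fun i => p ^ e i) ≃ₐ[k] ↥(powSub k A p 1)) :
    ∃ (n : ℕ) (f : Fin n → ℕ), (∀ i, 1 ≤ f i) ∧
      Nonempty (A ≃ₐ[k] MvPolynomial (Fin n) k ⧸ truncIdeal k fun i => p ^ f i) := by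
  classical
  haveI : IsArtinianRing A := IsArtinianRing.of_finite k A
  haveI := expChar_self k A p
  haveI : Module.Finite k (augI k A).Cotangent := finite_cotangent (k := k) (B := A)
  let B := powSub k A p 1
  let F : A →+* ↥B := (iterateFrobenius A p 1).codRestrict B fun a => ⟨a, rfl⟩
  have hFv : ∀ a, ((F a : ↥B) : A) = a ^ p := fun a => by simp [F, frobenius_def]
  have hF : Function.Surjective F := fun ⟨_, y, hy⟩ => ⟨y, Subtype.ext (by rw [hFv]; simpa using hy)⟩
  have hFc : ∀ c : k, F (algebraMap k A c) = algebraMap k ↥B (c ^ p) := fun c =>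
    Subtype.ext (by rw [hFv, ← map_pow]; rfl)
  choose y hy using fun i => hF (E (Ideal.Quotient.mk _ (X i)))
  have hnilT : ∀ i, IsNilpotent (E (Ideal.Quotient.mk (truncIdeal k fun i => p ^ e i) (X i))) := fun i =>
    ⟨p ^ e i, by rw [← map_pow, ← map_pow, Ideal.Quotient.eq_zero_iff_mem.2 (X_pow_mem (k := k) (fun i => p ^ e i) i), map_zero]⟩
  have hyI : ∀ i, y i ∈ augI k A := fun i => by
    refine counit_eq_zero_of_isNilpotent ?_
    obtain ⟨N, hN⟩ := hnilT i
    refine ⟨p * N, ?_⟩
    rw [pow_mul, ← hFv, hy, ← SubmonoidClass.coe_pow, hN]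
    rfl
  have hLI := cotangent_linearIndependent (A := A) p F hFc (fun a ha => (isNilpotent_of_mem_augI ha).map F)
    e he E y hyI hy
  let W := Submodule.span k (Set.range fun i => cotProj k A (y i))
  let bq := Module.finBasis k ((augI k A).Cotangent ⧸ W)
  let s := Module.finrank k ((augI k A).Cotangent ⧸ W)
  choose q hq using fun j => W.mkQ_surjective (bq j)
  choose z hz using fun j => (augI k A).toCotangent_surjective (q j)
  choose P hP using fun j => (Ideal.Quotient.mk_surjective.comp (Function.surjective_id)) (E.symm (F (z j)))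
  let P' : Fin s → MvPolynomial (Fin r) k := fun j => MvPolynomial.map (frobeniusEquiv k p).symm.toRingHom (P j)
  let z' : Fin s → A := fun j => z j - aeval y (P' j)
  have hPy : ∀ (Q : MvPolynomial (Fin r) k),
      F (aeval y (MvPolynomial.map (frobeniusEquiv k p).symm.toRingHom Q)) = E (Ideal.Quotient.mk _ Q) := by
    intro Q
    induction Q using MvPolynomial.induction_on with
    | C a =>
      rw [MvPolynomial.map_C, aeval_C, hFc]
      exact ((congrArg (algebraMap k ↥B) ((frobeniusEquiv k p).apply_symm_apply a)).trans (E.commutes a).symm)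
    | add p q hp hq => simp only [map_add, hp, hq]
    | mul_X p i hp => simp only [map_mul, MvPolynomial.map_X, aeval_X, hp, hy]
  have hz' : ∀ j, z' j ^ p = 0 := fun j => by
    rw [← hFv, map_sub, hPy, show Ideal.Quotient.mk (truncIdeal k fun i => p ^ e i) (P j) = E.symm (F (z j)) from hP j,
      E.apply_symm_apply, sub_self]
    rfl
  have hz'I : ∀ j, z' j ∈ augI k A := fun j => counit_eq_zero_of_isNilpotent ⟨p, hz' j⟩
  let w : Fin (r + s) → A := Fin.append y z'
  have hwI : ∀ i, w i ∈ augI k A := Fin.addCases (fun i => by simp only [w, Fin.append_left]; exact hyI i)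
    (fun j => by simp only [w, Fin.append_right]; exact hz'I j)
  have hspan : ⊤ ≤ Submodule.span k (Set.range fun i => cotProj k A (w i)) := by
    have hW : W ≤ Submodule.span k (Set.range fun i => cotProj k A (w i)) :=
      Submodule.span_mono (Set.range_subset_iff.2 fun i => ⟨Fin.castAdd s i, by simp [w]⟩)
    intro v _
    have h1 : W.mkQ v ∈ Submodule.span k (Set.range bq) := bq.span_eq.ge Submodule.mem_top
    rw [Submodule.mem_span_range_iff_exists_fun] at h1
    obtain ⟨c, hc⟩ := h1
    have h2 : v - ∑ j, c j • cotProj k A (z' j) ∈ W := by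
      rw [← Submodule.Quotient.mk_eq_zero, ← Submodule.mkQ_apply, map_sub, map_sum, ← hc, sub_eq_zero]
      refine Finset.sum_congr rfl fun j _ => ?_
      rw [map_smul]
      congr 1
      rw [map_sub (cotProj k A), map_sub, cotProj_of_mem (z j).2, hz, hq, eq_comm, sub_eq_self,
        Submodule.mkQ_apply, Submodule.Quotient.mk_eq_zero]
      exact cotProj_aeval_mem y _
    rw [← sub_add_cancel v (∑ j, c j • cotProj k A (z' j))]
    exact add_mem (hW h2) (Submodule.sum_mem _ fun j _ => Submodule.smul_mem _ _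
      (Submodule.subset_span ⟨Fin.natAdd r j, by simp [w]⟩))
  have hd : Fintype.card (Fin (r + s)) = Module.finrank k (augI k A).Cotangent := by
    rw [Fintype.card_fin, ← W.finrank_quotient_add_finrank, finrank_span_eq_card hLI, Fintype.card_fin, add_comm]
  let b := basisOfTopLeSpanOfCardEqFinrank _ hspan hd
  have hb : ∀ i, cotProj k A (w i) = b i := fun i => by simp [b]
  let f : Fin (r + s) → ℕ := Fin.append (fun i => e i + 1) fun _ => 1
  refine ⟨r + s, f, Fin.addCases (fun i => by simp [f]) (fun j => by simp [f]), ?_⟩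
  have hle : truncIdeal k (fun i => p ^ f i) ≤ RingHom.ker (aeval w : MvPolynomial (Fin (r + s)) k →ₐ[k] A) := by
    rw [truncIdeal, Ideal.span_le]
    rintro _ ⟨i, rfl⟩
    rw [SetLike.mem_coe, RingHom.mem_ker]
    simp only [map_pow, aeval_X]
    induction i using Fin.addCases with
    | left i =>
      simp only [w, f, Fin.append_left]
      rw [pow_succ', pow_mul, ← hFv, hy, ← SubmonoidClass.coe_pow, ← map_pow, ← map_pow,
        Ideal.Quotient.eq_zero_iff_mem.2 (X_pow_mem (k := k) (fun i => p ^ e i) i), map_zero]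
      rfl
    | right j =>
      simp only [w, f, Fin.append_right, pow_one]
      exact hz' j
  let ψ : (MvPolynomial (Fin (r + s)) k ⧸ truncIdeal k fun i => p ^ f i) →ₐ[k] A :=
    Ideal.Quotient.liftₐ _ (aeval w) fun a ha => hle ha
  have hs : Function.Surjective ψ := fun a => by
    obtain ⟨Q, hQ⟩ := mem_range_aeval b w hwI hb a
    exact ⟨Ideal.Quotient.mk _ Q, hQ⟩
  obtain ⟨hfin, hT⟩ := finrank_trunc (k := k) (fun i => p ^ f i)
  haveI := hfin
  have heq : Module.finrank k (MvPolynomial (Fin (r + s)) k ⧸ truncIdeal k fun i => p ^ f i) = Module.finrank k A := by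
    rw [hT, finrank_eq_mul_pow (k := k) (A := A) p, ← E.toLinearEquiv.finrank_eq, (finrank_trunc _).2, ← hd,
      Fintype.card_fin, Fin.prod_univ_add]
    simp [f, pow_succ, Finset.prod_mul_distrib, pow_add, mul_assoc]
  exact ⟨(AlgEquiv.ofBijective ψ ⟨(LinearMap.injective_iff_surjective_of_finrank_eq_finrank
    (f := ψ.toLinearMap) heq).2 hs, hs⟩).symm⟩

/-- Infinitesimal group schemes over perfect fields. -/
theorem exists_equiv_trunc (p : ℕ) [Fact p.Prime] [CharP k p] [PerfectRing k p] :
    ∀ (n : ℕ) (A : Type v) [CommRing A] [HopfAlgebra k A] [Module.Finite k A] [IsLocalRing A],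
      Module.finrank k A = n → ∃ (r : ℕ) (e : Fin r → ℕ), (∀ i, 1 ≤ e i) ∧
        Nonempty (A ≃ₐ[k] MvPolynomial (Fin r) k ⧸ truncIdeal k fun i => p ^ e i) := by
  intro n
  induction n using Nat.strong_induction_on with
  | _ n ih =>
    intro A _ _ _ _ hn
    haveI : IsArtinianRing A := IsArtinianRing.of_finite k A
    haveI := expChar_self k A p
    haveI : Module.Finite k (augI k A).Cotangent := finite_cotangent (k := k) (B := A)
    have hmul := finrank_eq_mul_pow (k := k) (A := A) p
    by_cases hr : Module.finrank k (augI k A).Cotangent = 0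
    · obtain ⟨b, x, hx, hxb⟩ := exists_lift_basis (A := A) hr
      refine ⟨0, fun i => i.elim0, fun i => i.elim0, ?_⟩
      let ψ : (MvPolynomial (Fin 0) k ⧸ truncIdeal k fun i : Fin 0 => p ^ (i.elim0 : ℕ)) →ₐ[k] A :=
        Ideal.Quotient.liftₐ _ (aeval x) fun a ha => by
          rw [truncIdeal, Set.range_eq_empty, Ideal.span_empty, Ideal.mem_bot] at ha
          rw [ha, map_zero]
      have hs : Function.Surjective ψ := fun a => by
        obtain ⟨Q, hQ⟩ := mem_range_aeval b x hx hxb a
        exact ⟨Ideal.Quotient.mk _ Q, hQ⟩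
      obtain ⟨hfin, hT⟩ := finrank_trunc (k := k) (fun i : Fin 0 => p ^ (i.elim0 : ℕ))
      haveI := hfin
      haveI : Nontrivial A := (cou (k := k) (B := A)).toRingHom.domain_nontrivial
      have heq : Module.finrank k (MvPolynomial (Fin 0) k ⧸ truncIdeal k fun i : Fin 0 => p ^ (i.elim0 : ℕ)) =
          Module.finrank k A := by
        refine le_antisymm ?_ (ψ.toLinearMap.finrank_le_finrank_of_surjective hs)
        rw [hT]
        simp only [Finset.univ_eq_empty, Finset.prod_empty]
        exact Nat.succ_le_of_lt Module.finrank_pos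
      exact ⟨(AlgEquiv.ofBijective ψ ⟨(LinearMap.injective_iff_surjective_of_finrank_eq_finrank
        (f := ψ.toLinearMap) heq).2 hs, hs⟩).symm⟩
    · let B := powSub k A p 1
      letI : HopfAlgebra k ↥B := hopfAlgebra (isHopfSubalgebra_powSub k A p 1)
      let F : A →+* ↥B := (iterateFrobenius A p 1).codRestrict B fun a => ⟨a, rfl⟩
      have hF : Function.Surjective F := fun ⟨_, y, hy⟩ => ⟨y, Subtype.ext hy⟩
      haveI : IsLocalRing ↥B := IsLocalRing.of_surjective' F hF
      haveI : Module.Finite k ↥B := FiniteDimensional.finiteDimensional_subalgebra B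
      have hlt : Module.finrank k ↥B < n := by
        rw [← hn, hmul]
        haveI : Nontrivial ↥B := inferInstance
        exact lt_mul_of_one_lt_right Module.finrank_pos (Nat.one_lt_pow hr (Fact.out : p.Prime).one_lt)
      obtain ⟨r, e, he, ⟨E⟩⟩ := ih _ hlt ↥B rfl
      exact exists_equiv_step p r e he E.symm

end HopfTruncLib
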