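import Groth.Agent.HopfTruncLib.Basic
import Groth.Agent.GrpSchLib.Cartier
import Mathlib

/-!
# Frobenius kernels of group schemes as Hopf algebras
-/

set_option autoImplicit false
set_option linter.style.haveILetI false

noncomputable section

universe u

open CategoryTheory AlgebraicGeometry MonoidalCategory CartesianMonoidalCategory MonObj IsLocalRing TensorProduct
open Groth.Agent.GrpSchLib

namespace HopfTruncLib

theorem isLocalRing_of_nilpotent_ker {k A : Type u} [Field k] [CommRing A] [Algebra k A] (ε : A →ₐ[k] k)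
    (h : ∀ a, ε a = 0 → IsNilpotent a) : IsLocalRing A := by
  haveI : Nontrivial A := ε.toRingHom.domain_nontrivial
  refine IsLocalRing.of_isUnit_or_isUnit_one_sub_self fun a => ?_
  by_cases ha : ε a = 0
  · exact Or.inr ((h a ha).isUnit_one_sub)
  · left
    have h1 : IsNilpotent (a - algebraMap k A (ε a)) := h _ (by simp)
    have h2 := h1.isUnit_add_right_of_commute ((Ne.isUnit ha).map (algebraMap k A)) (Commute.all _ _)
    rwa [sub_add_cancel] at h2

section

variable {K : Type u} [Field K] (G : Over (Spec (CommRingCat.of K))) [GrpObj G] (q : ℕ)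

instance algRloc : Algebra K (Rloc G) := (str G).hom.toAlgebra

/-- The ideal of `q`-th powers at the unit. -/
def powIdeal : Ideal (Rloc G) := Ideal.span ((fun y : Rloc G => y ^ q) '' (maximalIdeal (Rloc G) : Set (Rloc G)))

/-- The ring of the `q`-th Frobenius kernel. -/
abbrev KerRing : Type u := Rloc G ⧸ powIdeal G q

/-- Evaluation at the unit, as an algebra map. -/
def evAlg : Rloc G →ₐ[K] K :=
  { (evE G).hom with commutes' := fun c => congr($(str_evE (G := G)) c) }

theorem ker_evAlg : RingHom.ker (evAlg G).toRingHom = maximalIdeal (Rloc G) :=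
  IsLocalRing.eq_maximalIdeal (RingHom.ker_isMaximal_of_surjective _ fun c => ⟨algebraMap K _ c, (evAlg G).commutes c⟩)

variable [Fact (0 < q)]

theorem powIdeal_le : powIdeal G q ≤ RingHom.ker (evAlg G).toRingHom := by
  rw [powIdeal, Ideal.span_le]
  rintro _ ⟨y, hy, rfl⟩
  rw [← ker_evAlg] at hy
  exact Ideal.pow_mem_of_mem _ hy q Fact.out

/-- The counit. -/
def epsK : KerRing G q →ₐ[K] K := Ideal.Quotient.liftₐ _ (evAlg G) fun _ ha => powIdeal_le G q ha

/-- The universal point. -/
def uPt {A : Type u} [CommRing A] [Algebra K A] (f : KerRing G q →ₐ[K] A) :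
    overSpec (CommRingCat.ofHom (algebraMap K A)) ⟶ G :=
  ptHom _ (CommRingCat.ofHom (S := A) (f.comp (Ideal.Quotient.mkₐ K (powIdeal G q))).toRingHom)
    (CommRingCat.hom_ext (RingHom.ext fun c => (f.comp (Ideal.Quotient.mkₐ K (powIdeal G q))).commutes c))

omit [Fact (0 < q)] in
theorem uPt_injective {A : Type u} [CommRing A] [Algebra K A] {f g : KerRing G q →ₐ[K] A} (h : uPt G q f = uPt G q g) :
    f = g := by
  refine AlgHom.ext fun x => ?_
  obtain ⟨y, rfl⟩ := Ideal.Quotient.mk_surjective x
  exact congrArg (fun φ : Rloc G ⟶ CommRingCat.of A => φ.hom y) (ptHom_injective _ _ h)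

/-- Pullback along an algebra map. -/
def algTest {A B : Type u} [CommRing A] [CommRing B] [Algebra K A] [Algebra K B] (g : A →ₐ[K] B) :
    overSpec (CommRingCat.ofHom (algebraMap K B)) ⟶ overSpec (CommRingCat.ofHom (algebraMap K A)) :=
  testMap (CommRingCat.ofHom g.toRingHom) (CommRingCat.hom_ext (RingHom.ext fun c => g.commutes c))

omit [Fact (0 < q)] in
theorem algTest_uPt {A B : Type u} [CommRing A] [CommRing B] [Algebra K A] [Algebra K B] (g : A →ₐ[K] B)
    (f : KerRing G q →ₐ[K] A) : algTest g ≫ uPt G q f = uPt G q (g.comp f) :=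
  (testMap_ptHom _ _ _ _).trans (ptHom_congr rfl _)

theorem uPt_unit {A : Type u} [CommRing A] [Algebra K A] :
    uPt G q ((Algebra.ofId K A).comp (epsK G q)) = 1 :=
  (ptHom_congr (CommRingCat.hom_ext (RingHom.ext fun _ => rfl)) _).trans (ptHom_unit _)

variable (p n : ℕ) [Fact p.Prime] [CharP K p] (hq : q = p ^ n)

include hq in
theorem pow_eq_of_kerRing (a : KerRing G q) : a ^ q = algebraMap K (KerRing G q) (epsK G q a ^ q) := by
  haveI : Nontrivial (KerRing G q) := (epsK G q).toRingHom.domain_nontrivial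
  haveI : CharP (KerRing G q) p := charP_of_injective_algebraMap (algebraMap K (KerRing G q)).injective p
  obtain ⟨y, rfl⟩ := Ideal.Quotient.mk_surjective a
  have h0 : y - algebraMap K (Rloc G) (evAlg G y) ∈ maximalIdeal (Rloc G) := by
    rw [← ker_evAlg, RingHom.mem_ker]
    show evAlg G (y - algebraMap K (Rloc G) (evAlg G y)) = 0
    rw [map_sub, AlgHom.commutes]
    exact sub_self _
  have h1 : (Ideal.Quotient.mk (powIdeal G q) (y - algebraMap K (Rloc G) (evAlg G y))) ^ q = 0 := by
    rw [← map_pow, Ideal.Quotient.eq_zero_iff_mem]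
    exact Ideal.subset_span ⟨_, h0, rfl⟩
  subst hq
  rw [map_sub, sub_pow_char_pow, sub_eq_zero] at h1
  rw [map_pow, h1]
  rfl

variable (A : Type u) [CommRing A] [Algebra K A] (εA : A →ₐ[K] K) (hA : ∀ a, εA a = 0 → a ^ q = 0)

include hA in
theorem exists_of_pt (c : overSpec (CommRingCat.ofHom (algebraMap K A)) ⟶ G) (hc : algTest εA ≫ c = 1) :
    ∃ f : KerRing G q →ₐ[K] A, uPt G q f = c := by
  haveI : IsLocalRing A := isLocalRing_of_nilpotent_ker εA fun a ha => ⟨q, hA a ha⟩
  haveI : IsLocalHom εA.toRingHom := ⟨fun a ha => by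
    by_contra hn
    have h1 : a ∈ maximalIdeal A := (IsLocalRing.mem_maximalIdeal a).2 hn
    have hmax : RingHom.ker εA.toRingHom = maximalIdeal A :=
      IsLocalRing.eq_maximalIdeal (RingHom.ker_isMaximal_of_surjective _ fun c => ⟨algebraMap K _ c, εA.commutes c⟩)
    rw [← hmax, RingHom.mem_ker] at h1
    exact ha.ne_zero h1⟩
  have hpt : c.left (closedPoint A) = ptE G := by
    haveI : IsLocalHom (CommRingCat.ofHom εA.toRingHom).hom := ‹IsLocalHom εA.toRingHom›
    have e : Spec.map (CommRingCat.ofHom εA.toRingHom) ≫ c.left = η[G].left := by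
      have := congrArg CommaMorphism.left hc
      rw [← ptHom_unit] at this
      simp only [algTest, testMap, ptHom, Over.comp_left, Over.homMk_left, Spec.map_comp, Category.assoc, map_evE] at this
      simpa [show (CommRingCat.ofHom (algebraMap K K) : CommRingCat.of K ⟶ CommRingCat.of K) = 𝟙 _ from rfl] using this
    rw [← Spec_closedPoint (R := CommRingCat.of A) (S := CommRingCat.of K) (f := CommRingCat.ofHom εA.toRingHom)]
    exact congr($e (closedPoint K))
  haveI : IsLocalRing (CommRingCat.of A) := ‹IsLocalRing A›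
  obtain ⟨φ, hφ, hφc⟩ := exists_eq_ptHom _ c hpt
  let ψ : Rloc G →ₐ[K] A := { φ.hom with commutes' := fun r => congrArg (fun χ : CommRingCat.of K ⟶ CommRingCat.of A => χ.hom r) hφ }
  have hev : ∀ y, εA (ψ y) = evAlg G y := fun y => by
    have h1 := hc
    rw [← hφc, ← ptHom_unit, algTest, testMap_ptHom] at h1
    exact (congrArg (fun χ : Rloc G ⟶ CommRingCat.of K => χ.hom y) (ptHom_injective _ _ h1)).trans rfl
  have hle : powIdeal G q ≤ RingHom.ker ψ.toRingHom := by
    rw [powIdeal, Ideal.span_le]
    rintro _ ⟨y, hy, rfl⟩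
    show ψ (y ^ q) = 0
    rw [map_pow]
    refine hA _ ?_
    rw [← ker_evAlg] at hy
    exact (hev y).trans hy
  exact ⟨Ideal.Quotient.liftₐ _ ψ fun a ha => hle ha, (ptHom_congr (by rfl) _).trans hφc⟩

/-- The counit of the square. -/
def epsSq : KerRing G q ⊗[K] KerRing G q →ₐ[K] K :=
  Algebra.TensorProduct.lift (epsK G q) (epsK G q) fun _ _ => Commute.all _ _

include hq in
theorem pow_eq_zero_tensor {z : KerRing G q ⊗[K] KerRing G q} (hz : epsSq G q z = 0) : z ^ q = 0 := by
  haveI : Nontrivial (KerRing G q ⊗[K] KerRing G q) := (epsSq G q).toRingHom.domain_nontrivial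
  haveI : CharP (KerRing G q ⊗[K] KerRing G q) p :=
    charP_of_injective_algebraMap (algebraMap K (KerRing G q ⊗[K] KerRing G q)).injective p
  have key : ∀ w : KerRing G q ⊗[K] KerRing G q, w ^ q = algebraMap K _ (epsSq G q w ^ q) := by
    intro w
    induction w using TensorProduct.induction_on with
    | zero => rw [map_zero, zero_pow (Nat.pos_iff_ne_zero.1 (Fact.out : 0 < q)), zero_pow (Nat.pos_iff_ne_zero.1 (Fact.out : 0 < q)), map_zero]
    | tmul a b =>
      rw [Algebra.TensorProduct.tmul_pow, pow_eq_of_kerRing G q p n hq a, pow_eq_of_kerRing G q p n hq b]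
      show _ = algebraMap K _ ((epsK G q a * epsK G q b) ^ q)
      rw [mul_pow, Algebra.algebraMap_eq_smul_one, Algebra.algebraMap_eq_smul_one, Algebra.algebraMap_eq_smul_one,
        TensorProduct.smul_tmul_smul, Algebra.TensorProduct.one_def]
    | add v w hv hw =>
      subst hq
      rw [map_add, add_pow_char_pow, hv, hw, add_pow_char_pow, map_add]
  rw [key, hz, zero_pow (Nat.pos_iff_ne_zero.1 Fact.out), map_zero]

include hq in
theorem pow_eq_zero_ker {a : KerRing G q} (ha : epsK G q a = 0) : a ^ q = 0 := by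
  rw [pow_eq_of_kerRing G q p n hq, ha, zero_pow (Nat.pos_iff_ne_zero.1 Fact.out), map_zero]

include hq in
/-- The Frobenius kernel at the unit is a Hopf algebra. -/
theorem exists_hopfAlgebra :
    ∃ (D : Type u) (_ : CommRing D) (_ : HopfAlgebra K D), Nonempty (D ≃ₐ[K] KerRing G q) := by
  let D := KerRing G q
  let i1 : D →ₐ[K] D ⊗[K] D := Algebra.TensorProduct.includeLeft
  let i2 : D →ₐ[K] D ⊗[K] D := Algebra.TensorProduct.includeRight
  let η₀ : ∀ {A : Type u} [CommRing A] [Algebra K A], D →ₐ[K] A :=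
    fun {A} _ _ => (Algebra.ofId K A).comp (epsK G q)
  obtain ⟨Δ, hΔ⟩ := exists_of_pt G q (D ⊗[K] D) (epsSq G q) (fun z => pow_eq_zero_tensor G q p n hq)
    (uPt G q i1 * uPt G q i2) (by
      rw [MonObj.comp_mul, algTest_uPt, algTest_uPt,
        show (epsSq G q).comp i1 = (Algebra.ofId K K).comp (epsK G q) from AlgHom.ext fun x => by
          show epsK G q x * epsK G q 1 = epsK G q x
          rw [map_one, _root_.mul_one],
        show (epsSq G q).comp i2 = (Algebra.ofId K K).comp (epsK G q) from AlgHom.ext fun x => by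
          show epsK G q 1 * epsK G q x = epsK G q x
          rw [map_one, _root_.one_mul],
        uPt_unit, _root_.one_mul])
  obtain ⟨S, hS⟩ := exists_of_pt G q D (epsK G q) (fun z => pow_eq_zero_ker G q p n hq) (uPt G q (AlgHom.id K D))⁻¹ (by
    rw [GrpObj.comp_inv, algTest_uPt, show (epsK G q).comp (AlgHom.id K D) = (Algebra.ofId K K).comp (epsK G q) from
      AlgHom.ext fun _ => rfl, uPt_unit, inv_one])
  have hmul : ∀ {A : Type u} [CommRing A] [Algebra K A] (f g : D →ₐ[K] A),
      uPt G q ((Algebra.TensorProduct.lift f g fun _ _ => Commute.all _ _).comp Δ) = uPt G q f * uPt G q g := by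
    intro A _ _ f g
    rw [← algTest_uPt, hΔ, MonObj.comp_mul, algTest_uPt, algTest_uPt,
      show (Algebra.TensorProduct.lift f g fun _ _ => Commute.all _ _).comp i1 = f from AlgHom.ext fun x => by simp [i1],
      show (Algebra.TensorProduct.lift f g fun _ _ => Commute.all _ _).comp i2 = g from AlgHom.ext fun x => by simp [i2]]
  have h_coassoc : (Algebra.TensorProduct.assoc K K K D D D).toAlgHom.comp
      ((Algebra.TensorProduct.map Δ (.id K D)).comp Δ) = (Algebra.TensorProduct.map (.id K D) Δ).comp Δ := by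
    let j1 : D →ₐ[K] D ⊗[K] (D ⊗[K] D) := Algebra.TensorProduct.includeLeft
    let j2 : D →ₐ[K] D ⊗[K] (D ⊗[K] D) := Algebra.TensorProduct.includeRight.comp i1
    let j3 : D →ₐ[K] D ⊗[K] (D ⊗[K] D) := Algebra.TensorProduct.includeRight.comp i2
    have hc3 : ∀ x y : D ⊗[K] (D ⊗[K] D), Commute x y := fun x y => mul_comm x y
    have e2 : Algebra.TensorProduct.map (AlgHom.id K D) Δ = Algebra.TensorProduct.lift j1
        ((Algebra.TensorProduct.lift j2 j3 fun _ _ => hc3 _ _).comp Δ) fun _ _ => hc3 _ _ := by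
      refine Algebra.TensorProduct.ext (AlgHom.ext fun a => ?_) (AlgHom.ext fun b => ?_)
      · simp [j1]
      · have : Algebra.TensorProduct.lift j2 j3 (fun _ _ => hc3 _ _) =
            (Algebra.TensorProduct.includeRight : D ⊗[K] D →ₐ[K] D ⊗[K] (D ⊗[K] D)) :=
          Algebra.TensorProduct.ext (by simp [j2, i1]) (by simp [j3, i2]; rfl)
        simp [this, AlgHom.comp_apply]
    have e1 : (Algebra.TensorProduct.assoc K K K D D D).toAlgHom.comp (Algebra.TensorProduct.map Δ (AlgHom.id K D)) =
        Algebra.TensorProduct.lift ((Algebra.TensorProduct.lift j1 j2 fun _ _ => hc3 _ _).comp Δ) j3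
          fun _ _ => hc3 _ _ := by
      refine Algebra.TensorProduct.ext (AlgHom.ext fun a => ?_) (AlgHom.ext fun b => ?_)
      · have : (Algebra.TensorProduct.assoc K K K D D D).toAlgHom.comp
            (Algebra.TensorProduct.includeLeft : D ⊗[K] D →ₐ[K] (D ⊗[K] D) ⊗[K] D) =
            Algebra.TensorProduct.lift j1 j2 fun _ _ => hc3 _ _ :=
          Algebra.TensorProduct.ext (AlgHom.ext fun _ => by simp [j1]; rfl) (AlgHom.ext fun _ => by simp [j2, i1])
        simp [← this]
      · simp [j3, i2]; rfl
    rw [← AlgHom.comp_assoc, e1, e2]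
    refine uPt_injective G q (A := D ⊗[K] (D ⊗[K] D)) ?_
    rw [hmul, hmul, hmul, hmul, _root_.mul_assoc]
  have h_rTensor : (Algebra.TensorProduct.map (epsK G q) (.id K D)).comp Δ = (Algebra.TensorProduct.lid K D).symm := by
    have e : (Algebra.TensorProduct.lid K D).toAlgHom.comp (Algebra.TensorProduct.map (epsK G q) (AlgHom.id K D)) =
        Algebra.TensorProduct.lift η₀ (AlgHom.id K D) fun _ _ => Commute.all _ _ :=
      Algebra.TensorProduct.ext (AlgHom.ext fun _ => by simp [η₀, Algebra.ofId_apply, Algebra.smul_def])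
        (AlgHom.ext fun _ => by simp)
    have h : (Algebra.TensorProduct.lift η₀ (AlgHom.id K D) fun _ _ => Commute.all _ _).comp Δ = AlgHom.id K D := by
      apply uPt_injective G q
      rw [hmul, uPt_unit, _root_.one_mul]
    refine AlgHom.ext fun x => (Algebra.TensorProduct.lid K D).injective ?_
    refine Eq.trans ?_ ((Algebra.TensorProduct.lid K D).apply_symm_apply x).symm
    exact (AlgHom.congr_fun e (Δ x)).trans (AlgHom.congr_fun h x)
  have h_lTensor : (Algebra.TensorProduct.map (.id K D) (epsK G q)).comp Δ = (Algebra.TensorProduct.rid K K D).symm := by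
    have e : (Algebra.TensorProduct.rid K K D).toAlgHom.comp (Algebra.TensorProduct.map (AlgHom.id K D) (epsK G q)) =
        Algebra.TensorProduct.lift (AlgHom.id K D) η₀ fun _ _ => Commute.all _ _ :=
      Algebra.TensorProduct.ext (AlgHom.ext fun _ => by simp)
        (AlgHom.ext fun _ => by simp [η₀, Algebra.ofId_apply, Algebra.smul_def])
    have h : (Algebra.TensorProduct.lift (AlgHom.id K D) η₀ fun _ _ => Commute.all _ _).comp Δ = AlgHom.id K D := by
      apply uPt_injective G q
      rw [hmul, uPt_unit, _root_.mul_one]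
    refine AlgHom.ext fun x => (Algebra.TensorProduct.rid K K D).injective ?_
    refine Eq.trans ?_ ((Algebra.TensorProduct.rid K K D).apply_symm_apply x).symm
    exact (AlgHom.congr_fun e (Δ x)).trans (AlgHom.congr_fun h x)
  letI : Bialgebra K D := Bialgebra.ofAlgHom Δ (epsK G q) h_coassoc h_rTensor h_lTensor
  letI hB : HopfAlgebra K D := HopfAlgebra.ofAlgHom S
    (by
      apply uPt_injective G q
      show uPt G q ((Algebra.TensorProduct.lift S (AlgHom.id K D) fun _ _ => Commute.all _ _).comp Δ) = _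
      rw [hmul, hS, inv_mul_cancel]
      exact (uPt_unit G q).symm)
    (by
      apply uPt_injective G q
      show uPt G q ((Algebra.TensorProduct.lift (AlgHom.id K D) S fun _ _ => Commute.all _ _).comp Δ) = _
      rw [hmul, hS, mul_inv_cancel]
      exact (uPt_unit G q).symm)
  exact ⟨D, inferInstance, hB, ⟨AlgEquiv.refl⟩⟩

end

end HopfTruncLib
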