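import Groth.Agent.HopfTruncLib.FrobKernel
import Groth.Agent.CIRingLib.Avramov
import Groth.Agent.CIRingLib.Fibres
import Groth.Agent.CIRingLib.FieldExt
import Groth.Agent.CIRingLib.Open
import Groth.Agent.CIRingLib.MorApps
import Groth.Agent.FlatLib.OpenFP
import Groth.Agent.GrpSchLib.Regular
import Groth.Agent.GrpSchLib.HopfRedQuot
import Mathlib

/-!
# Group schemes locally of finite type over a field are local complete intersections
-/

set_option autoImplicit false
set_option linter.style.haveILetI false
set_option backward.isDefEq.respectTransparency.types false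

noncomputable section

universe u

open CategoryTheory CategoryTheory.Limits AlgebraicGeometry IsLocalRing

namespace HopfTruncLib

theorem isIntegral_of_nilpotent_ker {k A : Type u} [Field k] [CommRing A] [Algebra k A] (ε : A →ₐ[k] k)
    (h : ∀ a, ε a = 0 → IsNilpotent a) : Algebra.IsIntegral k A := by
  refine ⟨fun a => ?_⟩
  obtain ⟨N, hN⟩ := h (a - algebraMap k A (ε a)) (by simp)
  refine ⟨(Polynomial.X - Polynomial.C (ε a)) ^ N, (Polynomial.monic_X_sub_C _).pow N, ?_⟩
  simp [hN]

theorem finite_of_essFiniteType_of_isIntegral {k A : Type u} [Field k] [CommRing A] [Algebra k A]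
    [Algebra.EssFiniteType k A] [Algebra.IsIntegral k A] : Module.Finite k A := by
  let T := Algebra.EssFiniteType.subalgebra k A
  haveI : Algebra.IsIntegral k T := Algebra.IsIntegral.of_injective T.val Subtype.val_injective
  haveI : Module.Finite k T := Algebra.IsIntegral.finite
  haveI : IsArtinianRing T := IsArtinianRing.of_finite k T
  exact Module.Finite.of_surjective (T.val.toLinearMap)
    (IsArtinianRing.localization_surjective (Algebra.EssFiniteType.submonoid k A) A)

theorem ci_of_hopf {k A : Type u} [Field k] (p : ℕ) [Fact p.Prime] [CharP k p] [PerfectRing k p] [CommRing A]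
    [HopfAlgebra k A] [Module.Finite k A] [IsLocalRing A] : Pi1.IsCompleteIntersection A := by
  haveI : IsArtinianRing A := IsArtinianRing.of_finite k A
  obtain ⟨r, e, -, ⟨E⟩⟩ := exists_equiv_trunc (k := k) p _ A rfl
  have hg : Synt.IsGlobalCI k A := Or.inr ⟨r, r, le_rfl,
    E.symm.toAlgHom.comp (Ideal.Quotient.mkₐ k _), fun i => MvPolynomial.X i ^ (p ^ e i),
    E.symm.surjective.comp Ideal.Quotient.mk_surjective, by
      show RingHom.ker (E.symm.toRingEquiv.toRingHom.comp (Ideal.Quotient.mk _)) = _
      rw [RingHom.ker_comp_of_injective _ E.symm.injective]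
      exact Ideal.mk_ker, by
      rw [Nat.sub_self]
      exact ringKrullDimZero_iff_ringKrullDim_eq_zero.1 inferInstance⟩
  haveI h := CIRingLib.ci_localizations_of_syntomic (TransLib.isSyntomic_of_isGlobalCI hg) (maximalIdeal A)
  exact (CIRingLib.isCompleteIntersection_congr_iff
    (IsLocalization.atUnits A (maximalIdeal A).primeCompl (S := Localization.AtPrime (maximalIdeal A))
      fun x hx => IsLocalRing.notMem_maximalIdeal.1 hx).toRingEquiv).2 h

/-- A closed point at which the reduced ring is smooth and the module map is flat. -/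
theorem exists_closed_flat {K A B : Type u} [Field K] [IsAlgClosed K] [CommRing A] [CommRing B] [Algebra K A]
    [Algebra.FiniteType K A] [IsReduced A] [Nontrivial A] [Algebra A B] [Algebra.FinitePresentation A B]
    (hcomap : Function.Surjective (PrimeSpectrum.comap (algebraMap A B))) [IsJacobsonRing B] [Algebra.IsIntegral A B] :
    ∃ M : Ideal B, ∃ _ : M.IsMaximal,
      IsRegularLocalRing (Localization.AtPrime (M.comap (algebraMap A B))) ∧
        Module.Flat A (Localization.AtPrime M) := by
  haveI : IsNoetherianRing A := Algebra.FiniteType.isNoetherianRing K A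
  haveI : Algebra.FinitePresentation K A := Algebra.FinitePresentation.of_finiteType.1 ‹_›
  obtain ⟨P, hP⟩ := Ideal.nonempty_minimalPrimes (I := (⊥ : Ideal A)) bot_ne_top
  have := hP.isPrime
  have hfld : IsField (Localization.AtPrime P) := by
    refine IsLocalRing.isField_iff_maximalIdeal_eq.2 (eq_bot_iff.2 fun x hx => ?_)
    have : x ∈ nilradical (Localization.AtPrime P) := by
      have : Ring.KrullDimLE 0 (Localization.AtPrime P) := .of_isLocalization _ hP _
      rw [Ring.KrullDimLE.nilradical_eq_maximalIdeal]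
      exact hx
    exact (Submodule.mem_bot _).2 (mem_nilradical.1 this).eq_zero
  obtain ⟨⟨Q, hQp⟩, hQ⟩ := hcomap ⟨P, ‹_›⟩
  let : Field (Localization.AtPrime P) := hfld.toField
  have hsm : Algebra.IsSmoothAt K P :=
    Groth.Agent.PerfectFieldLib.formallySmooth_of_perfectField K (Localization.AtPrime P)
  have hQP : P = Q.comap (algebraMap A B) := (congrArg PrimeSpectrum.asIdeal hQ).symm
  letI : Algebra (Localization.AtPrime P) (Localization.AtPrime Q) :=
    (Localization.localRingHom P Q (algebraMap A B) hQP).toAlgebra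
  haveI : IsScalarTower A (Localization.AtPrime P) (Localization.AtPrime Q) :=
    IsScalarTower.of_algebraMap_eq fun a => ((IsScalarTower.algebraMap_apply A B (Localization.AtPrime Q) a).trans
      (Localization.localRingHom_to_map P Q (algebraMap A B) hQP a).symm)
  have hflQ : Module.Flat A (Localization.AtPrime Q) :=
    Module.Flat.trans A (Localization.AtPrime P) (Localization.AtPrime Q)
  let W : Set (PrimeSpectrum B) :=
    FlatLib.flatLocus A B B ∩ PrimeSpectrum.comap (algebraMap A B) ⁻¹' Algebra.smoothLocus K A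
  have hW : IsOpen W :=
    FlatLib.isOpen_flatLocus_fp.inter (Algebra.isOpen_smoothLocus.preimage (PrimeSpectrum.continuous_comap _))
  have hQW : (⟨Q, hQp⟩ : PrimeSpectrum B) ∈ W := ⟨hflQ, by rw [Set.mem_preimage, hQ]; exact hsm⟩
  obtain ⟨x, ⟨hx1, hx2⟩, hxc⟩ := nonempty_inter_closedPoints (X := PrimeSpectrum B) (Z := W) ⟨_, hQW⟩
    hW.isLocallyClosed
  haveI hxM : x.asIdeal.IsMaximal := (PrimeSpectrum.isClosed_singleton_iff_isMaximal x).1 hxc
  haveI : (x.asIdeal.comap (algebraMap A B)).IsMaximal :=
    Ideal.isMaximal_comap_of_isIntegral_of_isMaximal x.asIdeal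
  exact ⟨x.asIdeal, hxM, (Groth.Agent.GrpSchLib.HopfRed.isRegular_iff_isSmoothAt _).1 hx2, hx1⟩

/-- Some closed point of an affine algebra: complete intersection as soon as its Frobenius fibre is one. -/
theorem exists_good_point (K : Type u) [Field K] [IsAlgClosed K] (p : ℕ) [Fact p.Prime] [CharP K p]
    (B : Type u) [CommRing B] [Algebra K B] [Algebra.FiniteType K B] [Nontrivial B] :
    ∃ (n : ℕ) (M : Ideal B) (_ : M.IsMaximal),
      (∀ [IsLocalRing (Localization.AtPrime M ⧸
        Ideal.span ((fun y : Localization.AtPrime M => y ^ (p ^ n)) '' (maximalIdeal (Localization.AtPrime M) : Set _)))],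
      Pi1.IsCompleteIntersection (Localization.AtPrime M ⧸
        Ideal.span ((fun y : Localization.AtPrime M => y ^ (p ^ n)) '' (maximalIdeal (Localization.AtPrime M) : Set _))) →
      Pi1.IsCompleteIntersection (Localization.AtPrime M)) := by
  haveI : IsNoetherianRing B := Algebra.FiniteType.isNoetherianRing K B
  haveI : CharP B p := charP_of_injective_algebraMap (algebraMap K B).injective p
  haveI : IsJacobsonRing B := isJacobsonRing_of_finiteType (A := K)
  obtain ⟨N, hN⟩ := IsNoetherianRing.isNilpotent_nilradical B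
  have hnil : ∀ x ∈ nilradical B, x ^ (p ^ N) = 0 := fun x hx => by
    have h1 : x ^ N ∈ nilradical B ^ N := Ideal.pow_mem_pow hx N
    rw [hN] at h1
    exact pow_eq_zero_of_le (Nat.lt_pow_self (Fact.out : p.Prime).one_lt).le h1
  let φ : B ⧸ nilradical B →+* B := Ideal.Quotient.lift _ (iterateFrobenius B p N) fun x hx => hnil x hx
  have hφ : ∀ x, φ (Ideal.Quotient.mk _ x) = x ^ (p ^ N) := fun x => rfl
  letI : Algebra (B ⧸ nilradical B) B := φ.toAlgebra
  have hmem : ∀ (P : Ideal B) [P.IsPrime] (x : B), Ideal.Quotient.mk (nilradical B) x ∈ P.comap φ ↔ x ∈ P :=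
    fun P hP x => ⟨fun h => hP.mem_of_pow_mem _ h, fun h => Ideal.pow_mem_of_mem _ h _ (pow_pos (Fact.out : p.Prime).pos N)⟩
  haveI : IsReduced (B ⧸ nilradical B) :=
    (Ideal.isRadical_iff_quotient_reduced _).1 (Ideal.radical_isRadical _)
  haveI : Nontrivial (B ⧸ nilradical B) := Ideal.Quotient.nontrivial_iff.2 (by
    intro h
    have h1 : (1 : B) ∈ nilradical B := h ▸ Submodule.mem_top
    exact not_isNilpotent_one (mem_nilradical.1 h1))
  haveI : IsNoetherianRing (B ⧸ nilradical B) := inferInstance
  haveI : Algebra.FiniteType (B ⧸ nilradical B) B := by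
    obtain ⟨s, hs⟩ := (inferInstance : Algebra.FiniteType K B).1
    refine ⟨s, eq_top_iff.2 fun b _ => ?_⟩
    have hb : b ∈ Algebra.adjoin K (s : Set B) := hs ▸ Algebra.mem_top
    induction hb using Algebra.adjoin_induction with
    | mem x hx => exact Algebra.subset_adjoin hx
    | algebraMap r =>
      obtain ⟨c, hc⟩ := IsAlgClosed.exists_pow_nat_eq r (pow_pos (Fact.out : p.Prime).pos N)
      have : algebraMap K B r = algebraMap (B ⧸ nilradical B) B (Ideal.Quotient.mk _ (algebraMap K B c)) := by
        rw [← hc, map_pow]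
        exact (hφ _).symm
      rw [this]
      exact Subalgebra.algebraMap_mem _ _
    | add x y _ _ hx hy => exact add_mem (hx trivial) (hy trivial)
    | mul x y _ _ hx hy => exact mul_mem (hx trivial) (hy trivial)
  haveI : Algebra.IsIntegral (B ⧸ nilradical B) B := ⟨fun b =>
    ⟨Polynomial.X ^ (p ^ N) - Polynomial.C (Ideal.Quotient.mk _ b),
      Polynomial.monic_X_pow_sub_C _ (pow_pos (Fact.out : p.Prime).pos N).ne', by
        rw [Polynomial.eval₂_sub, Polynomial.eval₂_X_pow, Polynomial.eval₂_C]
        exact sub_eq_zero.2 (hφ b).symm⟩⟩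
  haveI : Algebra.FinitePresentation (B ⧸ nilradical B) B := Algebra.FinitePresentation.of_finiteType.1 ‹_›
  have hcomap : Function.Surjective (PrimeSpectrum.comap (algebraMap (B ⧸ nilradical B) B)) := fun P => by
    refine ⟨PrimeSpectrum.comap (Ideal.Quotient.mk _) P, PrimeSpectrum.ext (Ideal.ext fun a => ?_)⟩
    obtain ⟨x, rfl⟩ := Ideal.Quotient.mk_surjective a
    exact hmem (P.asIdeal.comap (Ideal.Quotient.mk _)) x
  obtain ⟨M, hM, hreg, hflat⟩ := exists_closed_flat (K := K) (A := B ⧸ nilradical B) (B := B) hcomap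
  refine ⟨N, M, hM, @fun _ hci => ?_⟩
  let M₀ := M.comap (algebraMap (B ⧸ nilradical B) B)
  let A₀ := Localization.AtPrime M₀
  let R := Localization.AtPrime M
  let ψ : A₀ →+* R := Localization.localRingHom M₀ M _ rfl
  letI : Algebra A₀ R := ψ.toAlgebra
  haveI : IsLocalHom (algebraMap A₀ R) := Localization.isLocalHom_localRingHom M₀ M _ rfl
  haveI : IsScalarTower (B ⧸ nilradical B) A₀ R :=
    IsScalarTower.of_algebraMap_eq fun a => ((IsScalarTower.algebraMap_apply _ B R a).trans
      (Localization.localRingHom_to_map M₀ M _ rfl a).symm)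
  haveI : Module.Flat A₀ R := (Module.flat_iff_of_isLocalization A₀ M₀.primeCompl R).2 hflat
  haveI : CharP R p := by
    haveI : Algebra.IsPushout K K K K := inferInstance
    exact charP_of_injective_algebraMap (algebraMap K R).injective p
  have hmax : (maximalIdeal A₀).map (algebraMap A₀ R) =
      Ideal.span ((fun y : R => y ^ (p ^ N)) '' (maximalIdeal R : Set R)) := by
    rw [← IsLocalization.AtPrime.map_eq_maximalIdeal M₀ A₀, Ideal.map_map]
    refine le_antisymm (Ideal.map_le_iff_le_comap.2 fun a ha => ?_) (Ideal.span_le.2 ?_)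
    · obtain ⟨x, rfl⟩ := Ideal.Quotient.mk_surjective a
      refine Ideal.subset_span ⟨algebraMap B R x, ?_, ?_⟩
      · exact (IsLocalization.AtPrime.to_map_mem_maximal_iff R M x).2 ((hmem M x).1 ha)
      · show algebraMap B R x ^ (p ^ N) = ψ (algebraMap _ A₀ _)
        rw [Localization.localRingHom_to_map, ← map_pow]
        exact congrArg (algebraMap B R) (hφ x).symm
    · rintro _ ⟨y, hy, rfl⟩
      obtain ⟨x, s, rfl⟩ := IsLocalization.exists_mk'_eq M.primeCompl y
      have hx : x ∈ M := (IsLocalization.AtPrime.mk'_mem_maximal_iff R M x s).1 hy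
      have hu : IsUnit ((algebraMap B R s) ^ (p ^ N)) := (IsLocalization.map_units R s).pow _
      have he : IsLocalization.mk' R x s ^ (p ^ N) * algebraMap B R s ^ (p ^ N) = algebraMap B R x ^ (p ^ N) := by
        rw [← mul_pow, IsLocalization.mk'_spec]
      have h1 : algebraMap B R x ^ (p ^ N) ∈ M₀.map ((algebraMap A₀ R).comp (algebraMap (B ⧸ nilradical B) A₀)) := by
        have := Ideal.mem_map_of_mem ((algebraMap A₀ R).comp (algebraMap (B ⧸ nilradical B) A₀)) (I := M₀)
          (x := Ideal.Quotient.mk _ x) ((hmem M x).2 hx)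
        rw [RingHom.comp_apply, ← IsScalarTower.algebraMap_apply (B ⧸ nilradical B) A₀ R,
          IsScalarTower.algebraMap_apply (B ⧸ nilradical B) B R] at this
        rwa [← map_pow]
      rw [← he] at h1
      exact (Ideal.mul_unit_mem_iff_mem _ hu).1 h1
  haveI := hreg
  haveI : IsNoetherianRing R := inferInstance
  haveI : IsLocalRing (R ⧸ (maximalIdeal A₀).map (algebraMap A₀ R)) := CIRingLib.isLocalRing_quotient (by
    intro h
    exact (Ideal.map_le_iff_le_comap.2 (fun a ha => map_nonunit (algebraMap A₀ R) a ha) :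
      (maximalIdeal A₀).map (algebraMap A₀ R) ≤ maximalIdeal R).not_gt (h ▸ (IsLocalRing.maximalIdeal.isMaximal R).ne_top.lt_top))
  refine CIRingLib.isCompleteIntersection_iff_of_flat.2 ⟨CIRingLib.isCompleteIntersection_of_regular A₀, ?_⟩
  haveI : IsLocalRing (R ⧸ Ideal.span ((fun y : R => y ^ (p ^ N)) '' (maximalIdeal R : Set R))) :=
    (Ideal.quotEquivOfEq hmax).isLocalRing
  exact (CIRingLib.isCompleteIntersection_congr_iff (Ideal.quotEquivOfEq hmax)).2 hci

open Groth.Agent.GrpSchLib

variable {K : Type u} [Field K]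

theorem ci_rloc (G : Over (Spec (CommRingCat.of K))) [GrpObj G] [IsAlgClosed K] [LocallyOfFiniteType G.hom]
    (p : ℕ) [Fact p.Prime] [CharP K p] : Pi1.IsCompleteIntersection (Rloc G) := by
  obtain ⟨U, hU, hxU, -⟩ := exists_isAffineOpen_mem_and_subset (U := ⊤) (show ptE G ∈ (⊤ : G.left.Opens) from trivial)
  letI := (TransLib.structMap G.hom U).hom.toAlgebra
  haveI : Algebra.FiniteType K Γ(G.left, U) := by
    have h : (G.hom.appLE ⊤ U le_top).hom.FiniteType :=
      HasRingHomProperty.appLE (P := @LocallyOfFiniteType) G.hom inferInstance ⟨⊤, isAffineOpen_top _⟩ ⟨U, hU⟩ le_top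
    show (TransLib.structMap G.hom U).hom.FiniteType
    rw [CommRingCat.hom_comp, RingHom.finiteType_respectsIso.cancel_left_isIso]
    exact h
  haveI : Nontrivial Γ(G.left, U) := (IsLocalRing.residue (Rloc G)).comp
    (G.left.presheaf.germ U (ptE G) hxU).hom |>.domain_nontrivial
  obtain ⟨n, M, hM, hgood⟩ := exists_good_point K p Γ(G.left, U)
  let y : G.left := hU.fromSpec ⟨M, inferInstance⟩
  have hyU : y ∈ U := hU.range_fromSpec.le ⟨_, rfl⟩
  have := LocallyOfFiniteType.jacobsonSpace G.hom
  have hyc : IsClosed ({y} : Set G.left) := by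
    rw [← mem_closedPoints_iff]
    have h0 : (⟨M, inferInstance⟩ : PrimeSpectrum Γ(G.left, U)) ∈ closedPoints _ :=
      (PrimeSpectrum.isClosed_singleton_iff_isMaximal _).2 hM
    have h1 : (⟨M, inferInstance⟩ : PrimeSpectrum Γ(G.left, U)) ∈ hU.fromSpec ⁻¹' closedPoints G.left :=
      hU.fromSpec.isOpenEmbedding.preimage_closedPoints.ge h0
    exact h1
  have hp : hU.primeIdealOf ⟨y, hyU⟩ = ⟨M, inferInstance⟩ :=
    hU.fromSpec.isOpenEmbedding.injective (hU.fromSpec_primeIdealOf _)
  letI : Algebra Γ(G.left, U) (G.left.presheaf.stalk y) := TopCat.Presheaf.algebra_section_stalk G.left.presheaf ⟨y, hyU⟩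
  haveI : IsLocalization.AtPrime (G.left.presheaf.stalk y) M := by
    have := hU.isLocalization_stalk ⟨y, hyU⟩
    rwa [hp] at this
  let ε : Localization.AtPrime M ≃+* G.left.presheaf.stalk y :=
    (IsLocalization.algEquiv M.primeCompl (Localization.AtPrime M) (G.left.presheaf.stalk y)).toRingEquiv
  obtain ⟨α, hα⟩ := exists_translation G y hyc
  haveI : IsIso α.hom.left := (Over.forget _).map_isIso α.hom
  let θ : Rloc G ≃+* Localization.AtPrime M :=
    ((G.left.presheaf.stalkCongr (.of_eq hα.symm)).commRingCatIsoToRingEquiv.trans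
      (asIso (α.hom.left.stalkMap y)).commRingCatIsoToRingEquiv).trans ε.symm
  haveI : IsNoetherianRing (Localization.AtPrime M) := by
    haveI : IsNoetherianRing Γ(G.left, U) := Algebra.FiniteType.isNoetherianRing K _
    infer_instance
  haveI : Fact (0 < p ^ n) := ⟨pow_pos (Fact.out : p.Prime).pos n⟩
  haveI : IsLocalRing (KerRing G (p ^ n)) :=
    isLocalRing_of_nilpotent_ker (epsK G (p ^ n)) fun a ha => ⟨_, pow_eq_zero_ker G (p ^ n) p n rfl ha⟩
  haveI : IsNoetherianRing (Rloc G) := isNoetherianRing_of_ringEquiv _ θ.symm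
  have hci : Pi1.IsCompleteIntersection (KerRing G (p ^ n)) := by
    obtain ⟨D, _, _, ⟨e⟩⟩ := exists_hopfAlgebra G (p ^ n) p n rfl
    haveI : Algebra.EssFiniteType K (Rloc G) := by
      let τ := ((Scheme.ΓSpecIso (CommRingCat.of K)).inv ≫
        (Spec (CommRingCat.of K)).presheaf.germ ⊤ (G.hom (ptE G)) trivial)
      have hτ : IsIso τ := isIso_toStalk_field K _
      rw [← RingHom.essFiniteType_algebraMap]
      show (str G).hom.EssFiniteType
      rw [str_eq]
      exact (RingHom.EssFiniteType.respectsIso.2 _ (asIso τ).commRingCatIsoToRingEquiv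
        (LocallyOfFiniteType.stalkMap G.hom (ptE G)))
    haveI : Algebra.EssFiniteType K (KerRing G (p ^ n)) :=
      Algebra.EssFiniteType.of_surjective (Ideal.Quotient.mkₐ K (powIdeal G (p ^ n))) Ideal.Quotient.mk_surjective
    have hnil : ∀ a, epsK G (p ^ n) a = 0 → IsNilpotent a := fun a ha => ⟨_, pow_eq_zero_ker G (p ^ n) p n rfl ha⟩
    haveI := isIntegral_of_nilpotent_ker _ hnil
    haveI : Module.Finite K (KerRing G (p ^ n)) := finite_of_essFiniteType_of_isIntegral
    haveI := isLocalRing_of_nilpotent_ker _ hnil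
    haveI : IsNoetherianRing (KerRing G (p ^ n)) := Algebra.EssFiniteType.isNoetherianRing K _
    haveI : Module.Finite K D := Module.Finite.equiv e.symm.toLinearEquiv
    haveI : IsLocalRing D := e.symm.toRingEquiv.isLocalRing
    haveI : IsNoetherianRing D := isNoetherianRing_of_ringEquiv _ e.symm.toRingEquiv
    exact (CIRingLib.isCompleteIntersection_congr_iff e.toRingEquiv).1 (ci_of_hopf (k := K) p)
  have hmap : (powIdeal G (p ^ n)).map θ.toRingHom =
      Ideal.span ((fun y : Localization.AtPrime M => y ^ (p ^ n)) '' (maximalIdeal (Localization.AtPrime M) : Set _)) := by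
    rw [powIdeal, Ideal.map_span, Set.image_image]
    congr 1
    ext z
    constructor
    · rintro ⟨w, hw, rfl⟩
      exact ⟨θ w, fun h => hw (by simpa using h.map θ.symm), (map_pow θ w _).symm⟩
    · rintro ⟨w, hw, rfl⟩
      exact ⟨θ.symm w, fun h => hw (by simpa using h.map θ), by simp⟩
  let θ' := Ideal.quotientEquiv _ _ θ hmap.symm
  haveI := θ'.isLocalRing
  exact (CIRingLib.isCompleteIntersection_congr_iff θ).2 (hgood ((CIRingLib.isCompleteIntersection_congr_iff θ').1 hci))

end HopfTruncLib
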